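import Cfsg.Agent.Characters.Orthogonality
import Cfsg.Agent.Characters.Integrality
import Cfsg.Prelude.Def_Blocks

/-!
# Counting pairs of conjugates by characters

`card_pairs`: the number of pairs `(a, b)` with `(a x a⁻¹)(b y b⁻¹) ∈ S` through characters, and
consequences for pairs of conjugates whose product meets a `p`-subgroup trivially.
-/

set_option autoImplicit false

namespace CfsgLib.ClassPairs

open CfsgLib.Characters
open scoped ComplexConjugate

universe u

variable {G : Type u} [Group G] [Fintype G]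

theorem exists_irr_degree (χ : Cfsg.IrrCharacter G) :
    ∃ n : ℕ, 0 < n ∧ (χ : G → ℂ) 1 = n ∧ Cfsg.charDegree (χ : G → ℂ) = n ∧ n ∣ Nat.card G := by
  obtain ⟨n, ρ, hρ, h⟩ := χ.2
  have h1 : (χ : G → ℂ) 1 = (n : ℂ) := by
    rw [← h, Representation.char_one, Module.finrank_fin_fun]
  refine ⟨n, ?_, h1, ?_, ?_⟩
  · simpa using finrank_pos_of_isIrreducible ρ
  · simp [Cfsg.charDegree, h1]
  · simpa using finrank_dvd_card ρ

/-- Averaging one argument of an irreducible character over a conjugacy class. -/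
theorem sum_conj_mul (χ : Cfsg.IrrCharacter G) (x z : G) :
    ∑ a : G, (χ : G → ℂ) (a * x * a⁻¹ * z) =
      (Nat.card G : ℂ) * (χ : G → ℂ) x * (χ : G → ℂ) z / (χ : G → ℂ) 1 := by
  obtain ⟨n, ρ, hρ, h⟩ := χ.2
  have h1 : (χ : G → ℂ) 1 ≠ 0 := irr_one_ne_zero χ.2
  rw [← h] at h1 ⊢
  let T : (Fin n → ℂ) →ₗ[ℂ] (Fin n → ℂ) := ∑ a : G, ρ (a * x * a⁻¹)
  obtain ⟨c, hc⟩ := schur_scalar ρ T fun g v => by
    simp only [T, LinearMap.sum_apply, map_sum]
    refine (Fintype.sum_equiv (Equiv.mulLeft g) (fun a => ρ g (ρ (a * x * a⁻¹) v))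
      (fun a => ρ (a * x * a⁻¹) (ρ g v)) fun a => ?_).symm
    rw [← Module.End.mul_apply, ← map_mul, ← Module.End.mul_apply, ← map_mul]
    congr 2
    simp [mul_assoc]
  have hsum : ∀ z : G, ∑ a : G, ρ.character (a * x * a⁻¹ * z) = c * ρ.character z := by
    intro z
    have : ∑ a : G, ρ (a * x * a⁻¹ * z) = c • ρ z := by
      simp only [map_mul, ← Finset.sum_mul]
      show (∑ a : G, ρ a * ρ x * ρ a⁻¹) * ρ z = _
      have hT : (∑ a : G, ρ a * ρ x * ρ a⁻¹) = T := by simp [T, map_mul]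
      rw [hT, hc, smul_mul_assoc]
      rfl
    have h2 := congrArg (LinearMap.trace ℂ _) this
    rw [map_sum, map_smul] at h2
    exact h2
  have hc1 := hsum 1
  rw [Finset.sum_congr rfl (fun a _ => by rw [mul_one, Representation.char_conj]), Finset.sum_const,
    Finset.card_univ, nsmul_eq_mul, ← Nat.card_eq_fintype_card] at hc1
  rw [hsum, hc1, mul_right_comm c, mul_div_assoc, div_self h1, mul_one]

theorem sum_conj_conj (χ : Cfsg.IrrCharacter G) (x y : G) :
    ∑ a : G, ∑ b : G, (χ : G → ℂ) (a * x * a⁻¹ * (b * y * b⁻¹)) =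
      (Nat.card G : ℂ) ^ 2 * ((χ : G → ℂ) x * (χ : G → ℂ) y / (χ : G → ℂ) 1) := by
  rw [Finset.sum_comm]
  simp only [sum_conj_mul]
  rw [Finset.sum_congr rfl fun b _ => by rw [isClassFunction_of_isIrr χ.2 y b], Finset.sum_const,
    Finset.card_univ, nsmul_eq_mul, ← Nat.card_eq_fintype_card]
  ring

/-- The number of pairs of conjugators with product in `S`. -/
theorem card_pairs (x y : G) (S : Finset G) [DecidableEq G] :
    (∑ a : G, ∑ b : G, if a * x * a⁻¹ * (b * y * b⁻¹) ∈ S then (1 : ℂ) else 0) =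
      (Nat.card G : ℂ) * ∑ χ : Cfsg.IrrCharacter G,
        (∑ s ∈ S, conj ((χ : G → ℂ) s)) * ((χ : G → ℂ) x * (χ : G → ℂ) y / (χ : G → ℂ) 1) := by
  set θ : G → ℂ := fun g => ∑ c : G, if c * g * c⁻¹ ∈ S then (1 : ℂ) else 0 with hθdef
  have hθ : Cfsg.IsClassFunction G θ := by
    intro g h
    refine Fintype.sum_equiv (Equiv.mulRight h) _ _ fun c => ?_
    simp [mul_assoc]
  have hcoef : ∀ χ : Cfsg.IrrCharacter G,
      Cfsg.classInner θ (χ : G → ℂ) = ∑ s ∈ S, conj ((χ : G → ℂ) s) := by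
    intro χ
    rw [Cfsg.classInner]
    have h1 : ∀ c : G, (∑ g : G, (if c * g * c⁻¹ ∈ S then (1 : ℂ) else 0) * conj ((χ : G → ℂ) g))
        = ∑ s ∈ S, conj ((χ : G → ℂ) s) := by
      intro c
      have h2 := Fintype.sum_equiv (MulAut.conj c).toEquiv
        (fun g => (if c * g * c⁻¹ ∈ S then (1 : ℂ) else 0) * conj ((χ : G → ℂ) g))
        (fun g => (if g ∈ S then (1 : ℂ) else 0) * conj ((χ : G → ℂ) g)) fun g => by
          show _ = (if c * g * c⁻¹ ∈ S then (1 : ℂ) else 0) * conj ((χ : G → ℂ) (c * g * c⁻¹))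
          rw [isClassFunction_of_isIrr χ.2 g c]
      rw [h2]
      simp [Finset.sum_ite_mem]
    simp only [hθdef, Finset.sum_mul]
    rw [Finset.sum_comm]
    simp only [h1, Finset.sum_const, Finset.card_univ, nsmul_eq_mul, ← Nat.card_eq_fintype_card]
    rw [← mul_assoc, inv_mul_cancel₀ natCard_ne_zero, one_mul]
  have hbig : ∑ a : G, ∑ b : G, θ (a * x * a⁻¹ * (b * y * b⁻¹)) =
      (Nat.card G : ℂ) * ∑ a : G, ∑ b : G,
        if a * x * a⁻¹ * (b * y * b⁻¹) ∈ S then (1 : ℂ) else 0 := by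
    have h1 : ∀ c : G, (∑ a : G, ∑ b : G,
        if c * (a * x * a⁻¹ * (b * y * b⁻¹)) * c⁻¹ ∈ S then (1 : ℂ) else 0) =
        ∑ a : G, ∑ b : G, if a * x * a⁻¹ * (b * y * b⁻¹) ∈ S then (1 : ℂ) else 0 := by
      intro c
      refine Fintype.sum_equiv (Equiv.mulLeft c) _ _ fun a => ?_
      refine Fintype.sum_equiv (Equiv.mulLeft c) _ _ fun b => ?_
      simp [mul_assoc]
    simp only [hθdef]
    rw [Finset.sum_congr rfl fun a _ => Finset.sum_comm, Finset.sum_comm]
    simp only [h1, Finset.sum_const, Finset.card_univ, nsmul_eq_mul, ← Nat.card_eq_fintype_card]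
  have hexp : ∑ a : G, ∑ b : G, θ (a * x * a⁻¹ * (b * y * b⁻¹)) =
      ∑ χ : Cfsg.IrrCharacter G, Cfsg.classInner θ (χ : G → ℂ) *
        ((Nat.card G : ℂ) ^ 2 * ((χ : G → ℂ) x * (χ : G → ℂ) y / (χ : G → ℂ) 1)) := by
    conv_lhs => rw [classFunction_expansion hθ]
    simp only [Finset.sum_apply, Pi.smul_apply, smul_eq_mul]
    simp only [← sum_conj_conj, Finset.mul_sum]
    rw [Finset.sum_congr rfl fun a _ => Finset.sum_comm, Finset.sum_comm]
  rw [hexp] at hbig
  refine mul_left_cancel₀ (natCard_ne_zero (G := G)) ?_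
  rw [← hbig, Finset.mul_sum, Finset.mul_sum]
  refine Finset.sum_congr rfl fun χ _ => ?_
  rw [hcoef]
  ring

/-- If no pair of conjugates of `x` and `y` (where `y` is a conjugate of `x⁻¹`) has as product a
nontrivial element of the `p`-subgroup `P`, some degree has a large `p`-part. -/
theorem exists_irr_pow_dvd {p : ℕ} [Fact p.Prime] (x y : G) (hxy : IsConj x⁻¹ y) (P : Subgroup G)
    (c : ℕ) (hP : Nat.card P = p ^ c)
    (hprod : ∀ a b : G, a * x * a⁻¹ * (b * y * b⁻¹) ∈ P → a * x * a⁻¹ * (b * y * b⁻¹) = 1)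
    (e : ℕ) (he : (Nat.card (Subgroup.centralizer ({x} : Set G))).factorization p = e) :
    ∃ χ : Cfsg.IrrCharacter G, p ^ (c - e) ∣ Cfsg.charDegree (χ : G → ℂ) := by
  classical
  by_contra hne
  push Not at hne
  have hpp : p.Prime := Fact.out
  set C := Nat.card (Subgroup.centralizer ({x} : Set G)) with hC
  obtain ⟨d, rfl⟩ := isConj_iff.1 hxy
  -- the count
  have hcount : (∑ a : G, ∑ b : G,
      if a * x * a⁻¹ * (b * (d * x⁻¹ * d⁻¹) * b⁻¹) ∈ (P : Set G).toFinset then (1 : ℂ) else 0)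
      = (Nat.card G : ℂ) * C := by
    have hinner : ∀ a : G, (∑ b : G,
        if a * x * a⁻¹ * (b * (d * x⁻¹ * d⁻¹) * b⁻¹) ∈ (P : Set G).toFinset then (1 : ℂ) else 0)
        = (C : ℂ) := by
      intro a
      rw [Finset.sum_boole, hC]
      congr 1
      rw [← Fintype.card_subtype, Nat.card_eq_fintype_card.symm]
      refine Nat.card_congr
        { toFun := fun b => ⟨a⁻¹ * b.1 * d, ?_⟩
          invFun := fun k => ⟨a * k.1 * d⁻¹, ?_⟩
          left_inv := fun b => Subtype.ext (by group)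
          right_inv := fun k => Subtype.ext (by group) }
      · have h1 := hprod a b.1 (Set.mem_toFinset.1 b.2)
        rw [Subgroup.mem_centralizer_singleton_iff]
        have h2 : b.1 * d * x * (b.1 * d)⁻¹ = a * x * a⁻¹ := by
          calc b.1 * d * x * (b.1 * d)⁻¹ = (b.1 * (d * x⁻¹ * d⁻¹) * b.1⁻¹)⁻¹ := by group
            _ = a * x * a⁻¹ := inv_eq_of_mul_eq_one_left h1
        calc a⁻¹ * b.1 * d * x = a⁻¹ * (b.1 * d * x * (b.1 * d)⁻¹) * (b.1 * d) := by group
          _ = x * (a⁻¹ * b.1 * d) := by rw [h2]; group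
      · have hk := Subgroup.mem_centralizer_singleton_iff.1 k.2
        rw [Set.mem_toFinset]
        have : a * x * a⁻¹ * (a * k.1 * d⁻¹ * (d * x⁻¹ * d⁻¹) * (a * k.1 * d⁻¹)⁻¹) = 1 := by
          calc a * x * a⁻¹ * (a * k.1 * d⁻¹ * (d * x⁻¹ * d⁻¹) * (a * k.1 * d⁻¹)⁻¹)
              = a * ((x * k.1) * (k.1 * x)⁻¹) * a⁻¹ := by group
            _ = 1 := by rw [hk]; group
        rw [this]
        exact P.one_mem
    simp only [hinner, Finset.sum_const, Finset.card_univ, nsmul_eq_mul, Nat.card_eq_fintype_card]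
  rw [card_pairs] at hcount
  have hid := mul_left_cancel₀ (natCard_ne_zero (G := G)) hcount
  -- divisibility
  set D := ordCompl[p] (Nat.card G) with hD
  have hpD : ¬ p ∣ D := Nat.not_dvd_ordCompl hpp Nat.card_pos.ne'
  have hterm : ∀ χ : Cfsg.IrrCharacter G, IsIntegral ℤ
      ((D : ℂ) * ((∑ s ∈ (P : Set G).toFinset, conj ((χ : G → ℂ) s)) *
        ((χ : G → ℂ) x * (χ : G → ℂ) (d * x⁻¹ * d⁻¹) / (χ : G → ℂ) 1)) / (p : ℂ) ^ (e + 1)) := by
    intro χ
    obtain ⟨n, hn0, hn1, hdeg, hdvd⟩ := exists_irr_degree χ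
    set h := n.factorization p
    have hh : h + (e + 1) ≤ c := by
      by_contra hh
      refine hne χ ?_
      rw [hdeg]
      exact (Nat.pow_dvd_pow p (by omega)).trans (Nat.ordProj_dvd n p)
    have hn' : ordCompl[p] n ∣ D := Nat.ordCompl_dvd_ordCompl_of_dvd hdvd p
    obtain ⟨r, hr⟩ := hn'
    obtain ⟨m, hm⟩ := classInner_characters (G := P) (isCharacter_restrict P (isCharacter_of_isIrr χ.2))
      (η := fun _ : P => (1 : ℂ)) ⟨1, Representation.trivial ℂ P (Fin 1 → ℂ), by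
        funext g; simp [Representation.character]⟩
    have hsum : ∑ s ∈ (P : Set G).toFinset, conj ((χ : G → ℂ) s) = (p : ℂ) ^ c * m := by
      have h1 : Cfsg.classInner (fun s : P => (χ : G → ℂ) s) (fun _ : P => (1 : ℂ)) = (m : ℂ) := hm
      rw [Cfsg.classInner, inv_mul_eq_iff_eq_mul₀ natCard_ne_zero, hP] at h1
      simp only [map_one, mul_one, Nat.cast_pow] at h1
      rw [← map_sum]
      have h2 : ∑ s ∈ (P : Set G).toFinset, (χ : G → ℂ) s = ∑ s : P, (χ : G → ℂ) s :=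
        Finset.sum_subtype _ (fun s => by simp) _
      rw [h2, h1]
      simp
    have key : (D : ℂ) * ((p : ℂ) ^ c * m) / (χ : G → ℂ) 1 / (p : ℂ) ^ (e + 1)
        = ((r * p ^ (c - h - (e + 1)) * m : ℕ) : ℂ) := by
      rw [div_div, div_eq_iff (mul_ne_zero (irr_one_ne_zero χ.2)
        (pow_ne_zero _ (Nat.cast_ne_zero.2 hpp.ne_zero))), hn1]
      have hnat : D * (p ^ c * m) = r * p ^ (c - h - (e + 1)) * m * (n * p ^ (e + 1)) := by
        conv_rhs => rw [← Nat.ordProj_mul_ordCompl_eq_self n p]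
        rw [hr, show c = (c - h - (e + 1)) + h + (e + 1) by omega]
        simp only [pow_add]
        rw [show (c - h - (e + 1)) + h + (e + 1) - h - (e + 1) = c - h - (e + 1) by omega]
        ring
      exact_mod_cast hnat
    have : (D : ℂ) * ((∑ s ∈ (P : Set G).toFinset, conj ((χ : G → ℂ) s)) *
        ((χ : G → ℂ) x * (χ : G → ℂ) (d * x⁻¹ * d⁻¹) / (χ : G → ℂ) 1)) / (p : ℂ) ^ (e + 1) =
        ((r * p ^ (c - h - (e + 1)) * m : ℕ) : ℂ) *
          ((χ : G → ℂ) x * (χ : G → ℂ) (d * x⁻¹ * d⁻¹)) := by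
      rw [hsum, ← key]; ring
    rw [this]
    exact (isIntegral_natCast _).mul ((character_isIntegral (isCharacter_of_isIrr χ.2) _).mul
      (character_isIntegral (isCharacter_of_isIrr χ.2) _))
  have hint : IsIntegral ℤ (((D * C : ℕ) : ℂ) / ((p ^ (e + 1) : ℕ) : ℂ)) := by
    push_cast
    rw [← hid, Finset.mul_sum, Finset.sum_div]
    exact IsIntegral.sum _ fun χ _ => hterm χ
  have hdvd := dvd_of_isIntegral_div (pow_ne_zero _ hpp.ne_zero) hint
  have hdC : p ^ (e + 1) ∣ C :=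
    (Nat.Coprime.pow_left _ ((hpp.coprime_iff_not_dvd).2 hpD)).dvd_of_dvd_mul_left hdvd
  have hC0 : C ≠ 0 := Nat.card_pos.ne'
  rw [hpp.pow_dvd_iff_le_factorization hC0, show C.factorization p = e from he] at hdC
  omega

end CfsgLib.ClassPairs
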