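import Cfsg.Agent.ClassPairs.Basic
import Mathlib.GroupTheory.FixedPointFree
import Mathlib.GroupTheory.Sylow
import Mathlib.GroupTheory.Nilpotent

/-!
# Groups without elements of order `2p`

With no element of order `2p` and no character of `p`-defect zero, Sylow `p`-subgroups are inverted
by involutions, hence abelian, and involutions form one class.
-/

set_option autoImplicit false
set_option linter.unusedSectionVars false

namespace CfsgLib.ClassPairs

universe u

variable {G : Type u} [Group G] [Finite G] {p : ℕ} [Fact p.Prime]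

theorem exists_odd_conj {r s t : G} (hs : s * s = 1) (ht : t * t = 1) (hr : r = s * t)
    (hodd : Odd (orderOf r)) : ∃ d ∈ Subgroup.zpowers r, d * t * d⁻¹ = s := by
  obtain ⟨m, hm⟩ := hodd
  refine ⟨r ^ (m + 1), Subgroup.npow_mem_zpowers _ _, ?_⟩
  have hinv : SemiconjBy t r⁻¹ r := by
    show t * r⁻¹ = r * t
    rw [hr, mul_inv_rev, ← mul_assoc, mul_inv_cancel, one_mul, mul_assoc, ht, mul_one]
    exact inv_eq_of_mul_eq_one_right hs
  have h := hinv.pow_right (m + 1)
  have h1 : t * (r ^ (m + 1))⁻¹ = r ^ (m + 1) * t := by simpa [inv_pow] using h.eq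
  rw [mul_assoc, h1, ← mul_assoc, ← pow_add,
    show m + 1 + (m + 1) = orderOf r + 1 by omega, pow_succ, pow_orderOf_eq_one, one_mul, hr,
    mul_assoc, ht, mul_one]

theorem orderOf_pow_of_isPGroup {P : Subgroup G} (hP : IsPGroup p P) {z : G} (hz : z ∈ P) :
    ∃ k, orderOf z = p ^ k := by
  obtain ⟨k, hk⟩ := hP ⟨z, hz⟩
  obtain ⟨j, -, hj⟩ := (Nat.dvd_prime_pow Fact.out).1
    (orderOf_dvd_of_pow_eq_one (congrArg Subtype.val hk))
  exact ⟨j, hj⟩

/-- No involution centralises a nontrivial `p`-element. -/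
def NoTwoP (p : ℕ) (G : Type u) [Group G] : Prop :=
  ∀ s u : G, orderOf s = 2 → u ≠ 1 → (∃ k, orderOf u = p ^ k) → s * u ≠ u * s

theorem noTwoP_of_orderOf_ne (hp2 : p ≠ 2) (h : ∀ g : G, orderOf g ≠ 2 * p) : NoTwoP p G := by
  intro s u hs hu ⟨k, hk⟩ hsu
  have hk0 : k ≠ 0 := by
    rintro rfl
    exact hu (orderOf_eq_one_iff.1 (by simpa using hk))
  obtain ⟨j, rfl⟩ := Nat.exists_eq_succ_of_ne_zero hk0
  have hu' : orderOf (u ^ p ^ j) = p := by
    rw [orderOf_pow, hk, Nat.gcd_eq_right ⟨p, by rw [pow_succ]⟩, pow_succ,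
      Nat.mul_div_cancel_left _ (pow_pos (Fact.out : p.Prime).pos _)]
  refine h (s * u ^ p ^ j) ?_
  rw [(Commute.pow_right (show Commute s u from hsu) _).orderOf_mul_eq_mul_orderOf_of_coprime
    (by rw [hs, hu']; exact ((Nat.coprime_primes Nat.prime_two Fact.out).2 (Ne.symm hp2))), hs, hu']

theorem noTwoP_of_odd_centralizer
    (hC : ∀ g : G, g ≠ 1 → (∃ k : ℕ, orderOf g = p ^ k) →
      Odd (Nat.card ↥(Subgroup.centralizer ({g} : Set G)))) : NoTwoP p G := by
  intro s u hs hu hk hsu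
  have h2 : 2 ∣ Nat.card (Subgroup.centralizer ({u} : Set G)) := by
    have hmem : s ∈ Subgroup.centralizer ({u} : Set G) :=
      Subgroup.mem_centralizer_singleton_iff.2 hsu
    rw [← hs, ← Subgroup.orderOf_mk s hmem]
    exact orderOf_dvd_natCard _
  exact (Nat.not_even_iff_odd.2 (hC u hu hk)) (even_iff_two_dvd.2 h2)

theorem odd_card_of_centralizes (hN : NoTwoP p G) (H : Subgroup G) {u : G} (hu : u ≠ 1)
    (hk : ∃ k, orderOf u = p ^ k) (hH : ∀ h ∈ H, h * u = u * h) : Odd (Nat.card H) := by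
  by_contra h
  rw [Nat.not_odd_iff_even, even_iff_two_dvd] at h
  obtain ⟨s, hs⟩ := exists_prime_orderOf_dvd_card' (G := H) 2 h
  exact hN s u (by rw [Subgroup.orderOf_coe]; exact hs) hu hk (hH s s.2)

theorem centralizer_involution_coprime (hN : NoTwoP p G) {s : G} (hs : orderOf s = 2) :
    ¬ p ∣ Nat.card (Subgroup.centralizer ({s} : Set G)) := by
  intro h
  obtain ⟨u, hu⟩ := exists_prime_orderOf_dvd_card' p h
  have hu' : orderOf (u : G) = p := by rw [Subgroup.orderOf_coe]; exact hu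
  refine hN s u hs (fun h1 => ?_) ⟨1, by rw [hu', pow_one]⟩
    (Subgroup.mem_centralizer_singleton_iff.1 u.2).symm
  rw [h1, orderOf_one] at hu'
  exact (Fact.out : p.Prime).one_lt.ne hu'

theorem exists_defectZero (x y : G) (hxy : IsConj x⁻¹ y)
    (hx : ¬ p ∣ Nat.card (Subgroup.centralizer ({x} : Set G))) (P : Sylow p G)
    (hprod : ∀ a b : G, a * x * a⁻¹ * (b * y * b⁻¹) ∈ (P : Subgroup G) →
      a * x * a⁻¹ * (b * y * b⁻¹) = 1) :
    ∃ χ : Cfsg.IrrCharacter G,
      (Cfsg.charDegree (χ : G → ℂ)).factorization p = (Nat.card G).factorization p := by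
  have := Fintype.ofFinite G
  obtain ⟨χ, hχ⟩ := exists_irr_pow_dvd x y hxy (P : Subgroup G) _ P.card_eq_multiplicity hprod 0
    (Nat.factorization_eq_zero_of_not_dvd hx)
  obtain ⟨n, hn0, -, hdeg, hdvd⟩ := exists_irr_degree χ
  refine ⟨χ, le_antisymm ?_ ?_⟩
  · rw [hdeg]
    exact (Nat.factorization_le_iff_dvd hn0.ne' Nat.card_pos.ne').2 hdvd p
  · rw [Nat.sub_zero, hdeg, (Fact.out : p.Prime).pow_dvd_iff_le_factorization hn0.ne'] at hχ
    rw [hdeg]
    exact hχ

theorem inverts_of_mul {g h u : G} (hg : g * g = 1) (hh : h * h = 1) (hu : u = g * h) :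
    g * u * g⁻¹ = u⁻¹ := by
  have hgi : g⁻¹ = g := inv_eq_of_mul_eq_one_left hg
  have hhi : h⁻¹ = h := inv_eq_of_mul_eq_one_left hh
  rw [hu, mul_inv_rev, hhi, hgi, ← mul_assoc g g h, hg, one_mul]

theorem mul_self_of_orderOf {s : G} (hs : orderOf s = 2) : s * s = 1 := by
  rw [← sq, ← hs, pow_orderOf_eq_one]

theorem conj_mul_self {s : G} (hs : s * s = 1) (a : G) : (a * s * a⁻¹) * (a * s * a⁻¹) = 1 := by
  rw [show (a * s * a⁻¹) * (a * s * a⁻¹) = a * (s * s) * a⁻¹ by group, hs]; group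

/-- Without a character of defect zero every involution inverts a nontrivial `p`-element of `P`. -/
theorem exists_inverted (hN : NoTwoP p G)
    (hno : ¬ ∃ χ : Cfsg.IrrCharacter G,
      (Cfsg.charDegree (χ : G → ℂ)).factorization p = (Nat.card G).factorization p)
    {s : G} (hs : orderOf s = 2) (P : Sylow p G) :
    ∃ a : G, ∃ u ∈ (P : Subgroup G), u ≠ 1 ∧ (a * s * a⁻¹) * u * (a * s * a⁻¹)⁻¹ = u⁻¹ := by
  by_contra h
  push Not at h
  refine hno (exists_defectZero s s ?_ (centralizer_involution_coprime hN hs) P fun a b hab => ?_)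
  · rw [inv_eq_of_mul_eq_one_left (mul_self_of_orderOf hs)]
  · by_contra hne
    exact h a _ hab hne (inverts_of_mul (conj_mul_self (mul_self_of_orderOf hs) a)
      (conj_mul_self (mul_self_of_orderOf hs) b) rfl)

/-- An involution inverting a nontrivial `p`-element inverts a Sylow `p`-subgroup. -/
theorem exists_inverted_sylow (hp2 : p ≠ 2) (hN : NoTwoP p G) {s u : G} (hs : orderOf s = 2)
    (hu : u ≠ 1) (huk : ∃ k, orderOf u = p ^ k) (hsu : s * u * s⁻¹ = u⁻¹) :
    ∃ Q : Sylow p G, u ∈ (Q : Subgroup G) ∧ ∀ q ∈ (Q : Subgroup G), s * q * s⁻¹ = q⁻¹ := by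
  classical
  set C := Subgroup.centralizer ({u} : Set G) with hC
  have hss := mul_self_of_orderOf hs
  have hCmem : ∀ c ∈ C, s * c * s⁻¹ ∈ C := by
    intro c hc
    rw [hC, Subgroup.mem_centralizer_singleton_iff] at hc ⊢
    have hus : u = s * u⁻¹ * s⁻¹ := by
      conv_lhs => rw [← inv_inv u, ← hsu]
      group
    have hc' : c * u⁻¹ = u⁻¹ * c := ((show Commute c u from hc).inv_right).eq
    conv_lhs => rw [hus]
    conv_rhs => rw [hus]
    calc s * c * s⁻¹ * (s * u⁻¹ * s⁻¹) = s * (c * u⁻¹) * s⁻¹ := by group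
      _ = s * u⁻¹ * s⁻¹ * (s * c * s⁻¹) := by rw [hc']; group
  have hsinv : s⁻¹ = s := inv_eq_of_mul_eq_one_left hss
  let σ : MulAut C :=
    { toFun := fun c => ⟨s * c * s⁻¹, hCmem c c.2⟩
      invFun := fun c => ⟨s * c * s⁻¹, hCmem c c.2⟩
      left_inv := fun c => Subtype.ext (by
        show s * (s * c * s⁻¹) * s⁻¹ = (c : G)
        rw [hsinv, ← mul_assoc, ← mul_assoc, hss, one_mul, mul_assoc, hss, mul_one])
      right_inv := fun c => Subtype.ext (by
        show s * (s * c * s⁻¹) * s⁻¹ = (c : G)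
        rw [hsinv, ← mul_assoc, ← mul_assoc, hss, one_mul, mul_assoc, hss, mul_one])
      map_mul' := fun a b => Subtype.ext (by
        show s * ((a : G) * b) * s⁻¹ = s * a * s⁻¹ * (s * b * s⁻¹)
        group) }
  have hCodd : Odd (Nat.card C) :=
    odd_card_of_centralizes hN C hu huk fun h hh => Subgroup.mem_centralizer_singleton_iff.1 hh
  -- a fixed Sylow subgroup of `C`
  have := Fintype.ofFinite (Sylow p C)
  let e : Equiv.Perm (Sylow p C) := MulAction.toPerm σ
  have he : e ^ 2 ^ 1 = 1 := by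
    have hσ2 : σ * σ = 1 := MulEquiv.ext fun c => Subtype.ext (by
      show s * (s * c * s⁻¹) * s⁻¹ = (c : G)
      rw [hsinv, ← mul_assoc, ← mul_assoc, hss, one_mul, mul_assoc, hss, mul_one])
    ext R : 1
    show σ • σ • R = R
    rw [smul_smul, hσ2, one_smul]
  have hcard : ¬ 2 ∣ Fintype.card (Sylow p C) := by
    intro h2
    have h3 := (Sylow.card_dvd_index (default : Sylow p C)).trans
      (Subgroup.index_dvd_card _)
    rw [Nat.card_eq_fintype_card] at h3
    exact (Nat.not_even_iff_odd.2 hCodd) (even_iff_two_dvd.2 (h2.trans h3))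
  obtain ⟨R0, hR0⟩ := Equiv.Perm.exists_fixed_point_of_prime hcard he
  set R : Subgroup G := (R0 : Subgroup C).map C.subtype with hR
  have hRC : R ≤ C := Subgroup.map_subtype_le _
  have hRp : IsPGroup p R := R0.isPGroup'.map _
  have hinvR : ∀ q ∈ R, s * q * s⁻¹ ∈ R := by
    rintro _ ⟨q, hq, rfl⟩
    refine ⟨σ q, ?_, rfl⟩
    have h4 : σ q ∈ ((σ • R0 : Sylow p C) : Subgroup C) := Subgroup.smul_mem_pointwise_smul q σ _ hq
    rwa [show σ • R0 = R0 from hR0] at h4
  have huR : u ∈ R := by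
    have huC : u ∈ C := Subgroup.mem_centralizer_singleton_iff.2 rfl
    set uc : C := ⟨u, huC⟩ with huc
    have hzp : IsPGroup p (Subgroup.zpowers uc) := by
      obtain ⟨k, hk⟩ := huk
      exact IsPGroup.of_card (n := k) (by rw [Nat.card_zpowers, huc, Subgroup.orderOf_mk, hk])
    obtain ⟨R1, hR1⟩ := hzp.exists_le_sylow
    obtain ⟨g, hg⟩ := MulAction.exists_smul_eq C R1 R0
    refine ⟨uc, ?_, rfl⟩
    rw [SetLike.mem_coe, ← hg, Sylow.coe_subgroup_smul, Subgroup.mem_pointwise_smul_iff_inv_smul_mem,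
      ← map_inv]
    have : MulAut.conj g⁻¹ • uc = uc := by
      apply Subtype.ext
      have hg' := Subgroup.mem_centralizer_singleton_iff.1 g.2
      show (g : G)⁻¹ * u * (g : G)⁻¹⁻¹ = u
      rw [inv_inv, mul_assoc, ← hg']; group
    rw [this]
    exact hR1 (Subgroup.mem_zpowers _)
  have hinv : ∀ q ∈ R, s * q * s⁻¹ = q⁻¹ := by
    let φ : R →* R :=
      { toFun := fun q => ⟨s * q * s⁻¹, hinvR q q.2⟩
        map_one' := Subtype.ext (by simp)
        map_mul' := fun a b => Subtype.ext (by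
          show s * ((a : G) * b) * s⁻¹ = s * a * s⁻¹ * (s * b * s⁻¹)
          group) }
    have hφ : MonoidHom.FixedPointFree (φ : R → R) := by
      intro q hq
      by_contra hq1
      refine hN s q hs (fun h => hq1 (Subtype.ext h)) (orderOf_pow_of_isPGroup hRp q.2) ?_
      have h5 : s * (q : G) * s⁻¹ = q := congrArg Subtype.val hq
      exact mul_inv_eq_iff_eq_mul.1 h5
    have h2 : Function.Involutive φ := fun q => Subtype.ext (by
      show s * (s * q * s⁻¹) * s⁻¹ = (q : G)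
      rw [hsinv, ← mul_assoc, ← mul_assoc, hss, one_mul, mul_assoc, hss, mul_one])
    intro q hq
    exact congrArg Subtype.val (congrFun (hφ.coe_eq_inv_of_involutive h2) ⟨q, hq⟩)
  -- `R` is a Sylow subgroup
  have hkey : ∀ y : G, y ∈ Subgroup.normalizer (R : Set G) → (∃ k, orderOf y = p ^ k) → y ∈ C := by
    intro y hy hyk
    let φ := R.normalizerMonoidHom
    have hker : ∀ z : Subgroup.normalizer (R : Set G), φ z = 1 → (z : G) ∈ C := by
      intro z hz
      have h6 := congrArg (fun a : MulAut R => ((a ⟨u, huR⟩ : R) : G)) hz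
      rw [hC, Subgroup.mem_centralizer_singleton_iff]
      have h7 : (z : G) * u * (z : G)⁻¹ = u := h6
      exact mul_inv_eq_iff_eq_mul.1 h7
    set t := y * s * y⁻¹ with ht
    have htinv : ∀ q ∈ R, t * q * t⁻¹ = q⁻¹ := by
      intro q hq
      have hq' : y⁻¹ * q * y ∈ R := (Subgroup.mem_normalizer_iff''.1 hy q).1 hq
      calc t * q * t⁻¹ = y * (s * (y⁻¹ * q * y) * s⁻¹) * y⁻¹ := by rw [ht]; group
        _ = q⁻¹ := by rw [hinv _ hq']; group
    have htt : t * t = 1 := conj_mul_self hss y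
    have hstc : ∀ q ∈ R, s * t * q = q * (s * t) := by
      intro q hq
      have : (s * t) * q * (s * t)⁻¹ = q := by
        calc (s * t) * q * (s * t)⁻¹ = s * (t * q * t⁻¹) * s⁻¹ := by group
          _ = q := by rw [htinv q hq, hinv _ (R.inv_mem hq), inv_inv]
      exact mul_inv_eq_iff_eq_mul.1 this
    have hodd : Odd (orderOf (s * t)) := by
      have hm : s * t ∈ C := Subgroup.mem_centralizer_singleton_iff.2 (hstc u huR)
      rw [← Subgroup.orderOf_mk (s * t) hm]
      exact hCodd.of_dvd_nat (orderOf_dvd_natCard _)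
    obtain ⟨d, hd, hdt⟩ := exists_odd_conj hss htt rfl hodd
    have hdc : ∀ q ∈ R, d * q = q * d := by
      obtain ⟨i, rfl⟩ := hd
      intro q hq
      exact ((show Commute (s * t) q from hstc q hq).zpow_left i).eq
    have hdN : d ∈ Subgroup.normalizer (R : Set G) :=
      Subgroup.centralizer_le_normalizer _ (Subgroup.mem_centralizer_iff.2 fun q hq => (hdc q hq).symm)
    have hφd : φ ⟨d, hdN⟩ = 1 := by
      refine MulEquiv.ext fun q => Subtype.ext ?_
      show d * (q : G) * d⁻¹ = q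
      rw [hdc q q.2]; group
    have hcomm : d * y ∈ Subgroup.centralizer ({s} : Set G) := by
      rw [Subgroup.mem_centralizer_singleton_iff]
      have : d * y * s * (d * y)⁻¹ = s := by
        calc d * y * s * (d * y)⁻¹ = d * t * d⁻¹ := by rw [ht]; group
          _ = s := hdt
      exact mul_inv_eq_iff_eq_mul.1 this
    refine hker ⟨y, hy⟩ ?_
    have hφy : φ ⟨y, hy⟩ = φ (⟨d, hdN⟩ * ⟨y, hy⟩) := by rw [map_mul, hφd, one_mul]
    rw [← orderOf_eq_one_iff]
    obtain ⟨k, hk⟩ := hyk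
    have h8 : orderOf (φ ⟨y, hy⟩) ∣ p ^ k := by
      rw [← hk, ← Subgroup.orderOf_mk y hy]
      exact orderOf_map_dvd φ _
    have h9 : orderOf (φ ⟨y, hy⟩) ∣ Nat.card (Subgroup.centralizer ({s} : Set G)) := by
      rw [hφy]
      refine (orderOf_map_dvd φ _).trans ?_
      rw [← Subgroup.orderOf_coe]
      show orderOf (d * y) ∣ _
      rw [← Subgroup.orderOf_mk (d * y) hcomm]
      exact orderOf_dvd_natCard _
    exact Nat.eq_one_of_dvd_coprimes (Nat.Coprime.pow_left k
      (((Fact.out : p.Prime).coprime_iff_not_dvd).2 (centralizer_involution_coprime hN hs))) h8 h9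
  obtain ⟨Q, hQ⟩ := hRp.exists_le_sylow
  refine ⟨Q, hQ huR, ?_⟩
  suffices (Q : Subgroup G) = R by rw [this]; exact hinv
  refine le_antisymm ?_ hQ
  by_contra hlt
  have hne : R.subgroupOf (Q : Subgroup G) ≠ ⊤ := fun h => hlt (Subgroup.subgroupOf_eq_top.1 h)
  have : Group.IsNilpotent (Q : Subgroup G) := Q.isPGroup'.isNilpotent
  have hgt := Group.normalizerCondition_of_isNilpotent (R.subgroupOf (Q : Subgroup G))
    (lt_top_iff_ne_top.2 hne)
  obtain ⟨y, hy, hyR⟩ := SetLike.exists_of_lt hgt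
  have hyN : (y : G) ∈ Subgroup.normalizer (R : Set G) := by
    rw [Subgroup.mem_normalizer_iff]
    intro q
    constructor
    · intro hq
      have := (Subgroup.mem_normalizer_iff.1 hy ⟨q, hQ hq⟩).1 hq
      exact this
    · intro hq
      have hqQ : q ∈ (Q : Subgroup G) := by
        have := (Q : Subgroup G).mul_mem ((Q : Subgroup G).mul_mem ((Q : Subgroup G).inv_mem y.2)
          (hQ hq)) y.2
        simpa [mul_assoc] using this
      exact (Subgroup.mem_normalizer_iff.1 hy ⟨q, hqQ⟩).2 hq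
  have hyC := hkey y hyN (orderOf_pow_of_isPGroup Q.isPGroup' y.2)
  apply hyR
  have hsup : ((Q : Subgroup G).subgroupOf C) = (R0 : Subgroup C) := by
    refine R0.is_maximal' (Q.isPGroup'.comap_of_injective C.subtype C.subtype_injective) ?_
    intro z hz
    exact hQ ⟨z, hz, rfl⟩
  have hmem : (⟨y, hyC⟩ : C) ∈ (R0 : Subgroup C) := hsup ▸ y.2
  exact ⟨⟨y, hyC⟩, hmem, rfl⟩

/-- In the absence of a defect zero character: abelian Sylow subgroups and one class of involutions. -/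
theorem structure_of_no_defectZero (hp2 : p ≠ 2) (hN : NoTwoP p G) (h2 : 2 ∣ Nat.card G)
    (hno : ¬ ∃ χ : Cfsg.IrrCharacter G,
      (Cfsg.charDegree (χ : G → ℂ)).factorization p = (Nat.card G).factorization p) :
    (∀ P : Sylow p G, IsMulCommutative (P : Subgroup G)) ∧
      (∀ P : Sylow p G, ∃ t : G, orderOf t = 2 ∧ ∀ q ∈ (P : Subgroup G), t * q * t⁻¹ = q⁻¹) ∧
      ∀ s t : G, orderOf s = 2 → orderOf t = 2 → IsConj s t := by
  have hmain : ∀ s : G, orderOf s = 2 → ∀ P : Sylow p G, ∃ c : G, (∃ u ∈ (P : Subgroup G), u ≠ 1) ∧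
      ∀ q ∈ (P : Subgroup G), (c * s * c⁻¹) * q * (c * s * c⁻¹)⁻¹ = q⁻¹ := by
    intro s hs P
    obtain ⟨a, u, huP, hu1, hinv⟩ := exists_inverted hN hno hs P
    have hsa : orderOf (a * s * a⁻¹) = 2 := by
      rw [← hs]; exact MulEquiv.orderOf_eq (MulAut.conj a) s
    obtain ⟨Q, -, hQ⟩ := exists_inverted_sylow hp2 hN hsa hu1 (orderOf_pow_of_isPGroup P.isPGroup' huP) hinv
    obtain ⟨g, hg⟩ := MulAction.exists_smul_eq G Q P
    refine ⟨g * a, ⟨u, huP, hu1⟩, fun q hq => ?_⟩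
    rw [← hg, Sylow.coe_subgroup_smul, Subgroup.mem_pointwise_smul_iff_inv_smul_mem, ← map_inv,
      MulAut.smul_def, MulAut.conj_apply, inv_inv] at hq
    have := hQ _ hq
    calc (g * a * s * (g * a)⁻¹) * q * (g * a * s * (g * a)⁻¹)⁻¹
        = g * ((a * s * a⁻¹) * (g⁻¹ * q * g) * (a * s * a⁻¹)⁻¹) * g⁻¹ := by group
      _ = q⁻¹ := by rw [this]; group
  obtain ⟨s0, hs0⟩ := exists_prime_orderOf_dvd_card' (G := G) 2 h2
  have hord : ∀ (c s : G), orderOf s = 2 → orderOf (c * s * c⁻¹) = 2 := fun c s hs => by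
    rw [← hs]; exact MulEquiv.orderOf_eq (MulAut.conj c) s
  refine ⟨fun P => ?_, fun P => ?_, fun s t hs ht => ?_⟩
  · obtain ⟨c, -, hc⟩ := hmain s0 hs0 P
    refine ⟨⟨fun a b => Subtype.ext ?_⟩⟩
    show (a : G) * b = b * a
    have h3 := hc _ ((P : Subgroup G).mul_mem a.2 b.2)
    have h4 : (c * s0 * c⁻¹) * (a : G) * (c * s0 * c⁻¹)⁻¹ *
        ((c * s0 * c⁻¹) * (b : G) * (c * s0 * c⁻¹)⁻¹) = ((a : G) * b)⁻¹ := by rw [← h3]; group
    rw [hc _ a.2, hc _ b.2, ← mul_inv_rev] at h4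
    exact (inv_injective h4).symm
  · obtain ⟨c, -, hc⟩ := hmain s0 hs0 P
    exact ⟨_, hord c s0 hs0, hc⟩
  · obtain ⟨P⟩ : Nonempty (Sylow p G) := inferInstance
    obtain ⟨a, ⟨u, huP, hu1⟩, hs'⟩ := hmain s hs P
    obtain ⟨b, -, ht'⟩ := hmain t ht P
    have hA := mul_self_of_orderOf (hord a s hs)
    have hB := mul_self_of_orderOf (hord b t ht)
    have hC : (a * s * a⁻¹ * (b * t * b⁻¹)) * u = u * (a * s * a⁻¹ * (b * t * b⁻¹)) := by
      refine mul_inv_eq_iff_eq_mul.1 ?_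
      calc _ = (a * s * a⁻¹) * ((b * t * b⁻¹) * u * (b * t * b⁻¹)⁻¹) * (a * s * a⁻¹)⁻¹ := by group
        _ = u := by rw [ht' u huP, hs' _ ((P : Subgroup G).inv_mem huP), inv_inv]
    have hodd : Odd (orderOf (a * s * a⁻¹ * (b * t * b⁻¹))) := by
      have hm : a * s * a⁻¹ * (b * t * b⁻¹) ∈ Subgroup.centralizer ({u} : Set G) :=
        Subgroup.mem_centralizer_singleton_iff.2 hC
      rw [← Subgroup.orderOf_mk _ hm]
      exact (odd_card_of_centralizes hN _ hu1 (orderOf_pow_of_isPGroup P.isPGroup' huP)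
        fun h hh => Subgroup.mem_centralizer_singleton_iff.1 hh).of_dvd_nat (orderOf_dvd_natCard _)
    obtain ⟨d, -, hd⟩ := exists_odd_conj hA hB rfl hodd
    refine (isConj_iff.2 ⟨a, rfl⟩ : IsConj s (a * s * a⁻¹)).trans (IsConj.trans ?_
      (isConj_iff.2 ⟨b, rfl⟩ : IsConj t (b * t * b⁻¹)).symm)
    exact (isConj_iff.2 ⟨d, hd⟩ : IsConj (b * t * b⁻¹) (a * s * a⁻¹)).symm

end CfsgLib.ClassPairs
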