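import Cfsg.Agent.ClassPairs.Involution
import Cfsg.Agent.Blocks.GroupAlgebra
import Cfsg.Agent.Blocks.LocalRing

/-!
# The sum of all elements of square one, modulo two

`χ(T) / χ(1)`, for `T` the set of `t` with `t ^ 2 = 1`, lies in every maximal ideal over `2` unless
`χ` has 2-defect zero.
-/

set_option autoImplicit false

namespace CfsgLib.ClassPairs

open CfsgLib

universe u

variable {G : Type u} [Group G] [Fintype G] [DecidableEq G]

/-- The elements of square one. -/
def sqOne (G : Type u) [Group G] [Fintype G] [DecidableEq G] : Finset G :=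
  Finset.univ.filter fun t => t * t = 1

/-- The elements of square one inverting `g`. -/
def inverting (g : G) : Finset G :=
  Finset.univ.filter fun s => s * s = 1 ∧ (s * g) * (s * g) = 1

theorem mem_sqOne {t : G} : t ∈ sqOne G ↔ t * t = 1 := by simp [sqOne]

theorem mem_inverting {g s : G} : s ∈ inverting g ↔ s * s = 1 ∧ (s * g) * (s * g) = 1 := by
  simp [inverting]

theorem sqOne_conj_mem (g a : G) : a * g * a⁻¹ ∈ sqOne G ↔ g ∈ sqOne G := by
  rw [mem_sqOne, mem_sqOne, show a * g * a⁻¹ * (a * g * a⁻¹) = a * (g * g) * a⁻¹ by group,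
    conj_eq_one_iff]

theorem two_dvd_card_inverting {g : G}
    (h : 2 ∣ Nat.card ↥(Subgroup.centralizer ({g} : Set G))) : 2 ∣ (inverting g).card := by
  classical
  obtain ⟨⟨z, hzg⟩, hz⟩ := exists_prime_orderOf_dvd_card' 2 h
  rw [Subgroup.orderOf_mk] at hz
  have hzz := mul_self_of_orderOf hz
  have hgz : Commute g z := (Subgroup.mem_centralizer_singleton_iff.1 hzg).symm
  have hz1 : z ≠ 1 := fun h1 => by rw [h1, orderOf_one] at hz; exact absurd hz (by decide)
  -- the elements commuting with `z` are paired by translation, the others by conjugation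
  set f : G → G := fun s => if s * z = z * s then s * z else z * s * z⁻¹ with hf
  have hmem : ∀ s ∈ inverting g, f s ∈ inverting g := by
    intro s hs
    obtain ⟨h1, h2⟩ := mem_inverting.1 hs
    refine mem_inverting.2 ?_
    simp only [hf]
    by_cases hc : s * z = z * s
    · rw [if_pos hc]
      have hsz : Commute s z := hc
      have hag : Commute (s * g) z := hsz.mul_left hgz
      refine ⟨?_, ?_⟩
      · rw [hsz.symm.mul_mul_mul_comm s z, h1, hzz, one_mul]
      · rw [show s * z * g = s * g * z by rw [mul_assoc, hgz.symm.eq, ← mul_assoc],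
          hag.symm.mul_mul_mul_comm (s * g) z, h2, hzz, one_mul]
    · rw [if_neg hc]
      have hg' : z * s * z⁻¹ * g = z * (s * g) * z⁻¹ := by
        rw [mul_assoc (z * s), ← hgz.inv_right.eq]; group
      exact ⟨by rw [show z * s * z⁻¹ * (z * s * z⁻¹) = z * (s * s) * z⁻¹ by group, h1]; group,
        by rw [hg', show z * (s * g) * z⁻¹ * (z * (s * g) * z⁻¹)
          = z * ((s * g) * (s * g)) * z⁻¹ by group, h2]; group⟩
  have hinv : ∀ s, f (f s) = s := by
    intro s
    simp only [hf]
    by_cases hc : s * z = z * s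
    · rw [if_pos hc, if_pos (by rw [← mul_assoc, ← hc]), mul_assoc, hzz, mul_one]
    · have hc' : ¬ z * s * z⁻¹ * z = z * (z * s * z⁻¹) := by
        intro h'
        rw [inv_mul_cancel_right, mul_right_inj] at h'
        refine hc ?_
        conv_lhs => rw [h']
        group
      rw [if_neg hc, if_neg hc',
        show z * (z * s * z⁻¹) * z⁻¹ = (z * z) * s * (z * z)⁻¹ by group, hzz]
      group
  have hne : ∀ s, f s ≠ s := by
    intro s h'
    simp only [hf] at h'
    by_cases hc : s * z = z * s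
    · rw [if_pos hc, mul_eq_left] at h'
      exact hz1 h'
    · rw [if_neg hc] at h'
      exact hc (mul_inv_eq_iff_eq_mul.1 h').symm
  have h0 : ∑ _s ∈ inverting g, (1 : ZMod 2) = 0 :=
    Finset.sum_involution (fun s _ => f s) (fun _ _ => by decide) (fun s _ _ => hne s) hmem
      (fun s _ => hinv s)
  rw [Finset.sum_const, nsmul_eq_mul, mul_one, ZMod.natCast_eq_zero_iff] at h0
  exact h0

theorem card_inverting_conj {g g' : G} (h : IsConj g g') :
    (inverting g).card = (inverting g').card := by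
  obtain ⟨a, rfl⟩ := isConj_iff.1 h
  refine Finset.card_equiv (MulAut.conj a).toEquiv fun s => ?_
  show _ ↔ a * s * a⁻¹ ∈ inverting (a * g * a⁻¹)
  rw [mem_inverting, mem_inverting,
    show a * s * a⁻¹ * (a * s * a⁻¹) = a * (s * s) * a⁻¹ by group,
    show a * s * a⁻¹ * (a * g * a⁻¹) * (a * s * a⁻¹ * (a * g * a⁻¹))
      = a * ((s * g) * (s * g)) * a⁻¹ by group, conj_eq_one_iff, conj_eq_one_iff]

theorem isIntegral_sum_sqOne_div (χ : Cfsg.IrrCharacter G) :
    IsIntegral ℤ ((∑ t ∈ sqOne G, (χ : G → ℂ) t) / (χ : G → ℂ) 1) := by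
  obtain ⟨n, ρ, hρ, h⟩ := χ.2
  have h1 := Characters.isIntegral_centralCharacter ρ (sqOne G)
    fun (g a : G) => sqOne_conj_mem g a
  rw [← Representation.char_one ρ] at h1
  rw [← h]
  exact h1

theorem sq_sum_sqOne_div (χ : Cfsg.IrrCharacter G) :
    ((∑ t ∈ sqOne G, (χ : G → ℂ) t) / (χ : G → ℂ) 1) ^ 2 =
      ∑ g : G, ((inverting g).card : ℂ) * (χ : G → ℂ) g / (χ : G → ℂ) 1 := by
  let z : Blocks.Ctr ℂ G := ⟨Blocks.ofFun fun g => if g ∈ sqOne G then (1 : ℂ) else 0,
    Blocks.mem_ctr_iff.2 fun g h => by simp only [Blocks.coeff_ofFun, sqOne_conj_mem]⟩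
  have hz : Blocks.omega χ z = (∑ t ∈ sqOne G, (χ : G → ℂ) t) / (χ : G → ℂ) 1 := by
    rw [Blocks.omega_apply]
    congr 1
    simp [z, Finset.sum_ite_mem]
  rw [← hz, sq, ← map_mul, Blocks.omega_apply, Finset.sum_div]
  refine Finset.sum_congr rfl fun g _ => ?_
  congr 2
  rw [Subring.coe_mul, Blocks.coeff_mul_eq_sum]
  simp only [z, Blocks.coeff_ofFun, ite_mul, one_mul, zero_mul, ← ite_and]
  rw [Finset.sum_boole]
  congr 2
  ext s
  simp only [Finset.mem_filter, Finset.mem_univ, true_and, mem_inverting, mem_sqOne]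
  constructor
  · rintro ⟨h1, h2⟩
    rw [inv_eq_of_mul_eq_one_left h1] at h2
    exact ⟨h1, h2⟩
  · rintro ⟨h1, h2⟩
    rw [inv_eq_of_mul_eq_one_left h1]
    exact ⟨h1, h2⟩

variable {M : Ideal Cfsg.AlgInt} [M.IsPrime]

/-- Off 2-defect zero the normalised sum over square-one elements lies in the local ideal. -/
theorem memLocalIdeal_sum_sqOne_div (hM : Cfsg.IsPModular 2 M) (χ : Cfsg.IrrCharacter G)
    (hχ : (Cfsg.charDegree (χ : G → ℂ)).factorization 2 ≠ (Nat.card G).factorization 2) :
    Cfsg.MemLocalIdeal M ((∑ t ∈ sqOne G, (χ : G → ℂ) t) / (χ : G → ℂ) 1) := by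
  obtain ⟨d, hd0, hd1, hdeg, hdvd⟩ := exists_irr_degree χ
  rw [hdeg] at hχ
  have h2 : Cfsg.MemLocalIdeal M (2 : ℂ) := by
    exact_mod_cast (Blocks.memLocalIdeal_natCast_iff hM 2).2 dvd_rfl
  have hval : ∀ g : G, Cfsg.MemLocalRing M ((χ : G → ℂ) g) := fun g =>
    Blocks.memLocalRing_of_isIntegral
      (Characters.character_isIntegral (Characters.isCharacter_of_isIrr χ.2) g)
  have hterm : ∀ g : G, Cfsg.MemLocalIdeal M
      (((Subgroup.centralizer ({g} : Set G)).index : ℂ) *
        (((inverting g).card : ℂ) * (χ : G → ℂ) g / (χ : G → ℂ) 1)) := by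
    intro g
    by_cases hW : 2 ∣ (inverting g).card
    · obtain ⟨k, hk⟩ := hW
      have e : ((Subgroup.centralizer ({g} : Set G)).index : ℂ) *
          (((inverting g).card : ℂ) * (χ : G → ℂ) g / (χ : G → ℂ) 1) =
          (2 : ℂ) * ((k : ℂ) * Cfsg.centralChar (χ : G → ℂ) g) := by
        rw [hk, Cfsg.centralChar]; push_cast; ring
      rw [e]
      exact Blocks.memLocalIdeal_mul_right h2 (Blocks.memLocalRing_of_isIntegral
        ((show IsIntegral ℤ ((k : ℕ) : ℂ) from isIntegral_natCast _).mul (Blocks.isIntegral_centralChar χ g)))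
    · have hodd : ¬ 2 ∣ Nat.card ↥(Subgroup.centralizer ({g} : Set G)) :=
        fun h => hW (two_dvd_card_inverting h)
      set I := (Subgroup.centralizer ({g} : Set G)).index with hI
      have hCI : Nat.card ↥(Subgroup.centralizer ({g} : Set G)) * I = Nat.card G :=
        Subgroup.card_mul_index _
      have hI0 : I ≠ 0 := Subgroup.index_ne_zero_of_finite
      have hle : d.factorization 2 + 1 ≤ I.factorization 2 := by
        have hf : (Nat.card G).factorization 2 =
            (Nat.card ↥(Subgroup.centralizer ({g} : Set G))).factorization 2 + I.factorization 2 := by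
          rw [← hCI, Nat.factorization_mul Nat.card_pos.ne' hI0]; rfl
        have hd2 := (Nat.factorization_le_iff_dvd hd0.ne' Nat.card_pos.ne').2 hdvd 2
        rw [Nat.factorization_eq_zero_of_not_dvd hodd] at hf
        omega
      obtain ⟨r, hr⟩ : 2 ^ (d.factorization 2 + 1) ∣ I :=
        (Nat.prime_two.pow_dvd_iff_le_factorization hI0).2 hle
      set o := ordCompl[2] d with ho
      have hdo : d = 2 ^ d.factorization 2 * o := (Nat.ordProj_mul_ordCompl_eq_self d 2).symm
      have ho2 : ¬ 2 ∣ o := Nat.not_dvd_ordCompl Nat.prime_two hd0.ne'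
      have ho0 : (o : ℂ) ≠ 0 := Nat.cast_ne_zero.2 fun h => ho2 (h ▸ dvd_zero 2)
      have e : (I : ℂ) * (((inverting g).card : ℂ) * (χ : G → ℂ) g / (χ : G → ℂ) 1) =
          (2 : ℂ) * ((o : ℂ)⁻¹ * ((r : ℂ) * ((inverting g).card : ℂ) * (χ : G → ℂ) g)) := by
        rw [hd1, hr, show (d : ℂ) = (2 : ℂ) ^ d.factorization 2 * (o : ℂ) by exact_mod_cast hdo]
        push_cast
        field_simp
        ring
      rw [e]
      exact Blocks.memLocalIdeal_mul_right h2 ((Blocks.localRing M).mul_mem
        (Blocks.memLocalRing_natCast_inv hM ho2) ((Blocks.localRing M).mul_mem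
          ((Blocks.localRing M).mul_mem (Blocks.memLocalRing_natCast _)
            (Blocks.memLocalRing_natCast _)) (hval g)))
  have hsq : Cfsg.MemLocalIdeal M (((∑ t ∈ sqOne G, (χ : G → ℂ) t) / (χ : G → ℂ) 1) ^ 2) := by
    classical
    rw [sq_sum_sqOne_div, ← Finset.sum_fiberwise_of_maps_to (g := ConjClasses.mk)
      (t := (Finset.univ : Finset (ConjClasses G))) (fun _ _ => Finset.mem_univ _)]
    refine Blocks.memLocalIdeal_sum _ fun C _ => ?_
    obtain ⟨g, rfl⟩ := ConjClasses.mk_surjective C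
    rw [Finset.sum_congr rfl (g := fun _ => ((inverting g).card : ℂ) * (χ : G → ℂ) g / (χ : G → ℂ) 1)
      (fun g' hg' => by
        have hc := ConjClasses.mk_eq_mk_iff_isConj.1 (Finset.mem_filter.1 hg').2
        rw [Characters.classFunction_isConj (Characters.isClassFunction_of_isIrr χ.2) hc,
          card_inverting_conj hc]),
      Finset.sum_const, nsmul_eq_mul, ← Fintype.card_subtype, ← Nat.card_eq_fintype_card]
    rw [show Nat.card {g' : G // ConjClasses.mk g' = ConjClasses.mk g} =
      (Subgroup.centralizer ({g} : Set G)).index from Blocks.natCard_class g]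
    exact hterm g
  have e : (∑ t ∈ sqOne G, (χ : G → ℂ) t) / (χ : G → ℂ) 1
      = ((⟨_, isIntegral_sum_sqOne_div χ⟩ : Cfsg.AlgInt) : ℂ) := rfl
  rw [e, ← SubmonoidClass.coe_pow, Blocks.memLocalIdeal_coe_iff] at hsq
  rw [e, Blocks.memLocalIdeal_coe_iff]
  exact Ideal.IsPrime.mem_of_pow_mem ‹M.IsPrime› 2 hsq

end CfsgLib.ClassPairs
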